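import Mathlib.RingTheory.HopfAlgebra.Quotient
import Mathlib.RingTheory.HopfAlgebra.Convolution
import Mathlib.RingTheory.HopfAlgebra.TensorProduct
import Mathlib.RingTheory.Nilpotent.Lemmas
import Mathlib.LinearAlgebra.FiniteDimensional.Basic
import Mathlib.RingTheory.Ideal.Quotient.Operations
import Mathlib.RingTheory.Flat.Basic
import Mathlib.RingTheory.Artinian.Ring
import Mathlib.LinearAlgebra.Dimension.OrzechProperty
import Mathlib.LinearAlgebra.FiniteDimensional.Lemmas
import Mathlib.LinearAlgebra.FreeModule.Finite.Matrix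
import Mathlib.RingTheory.TensorProduct.Free

/-!
# Finite Hopf algebras over a field: sub-Hopf-algebras, quotients, freeness
-/

universe u

open TensorProduct Coalgebra HopfAlgebra WithConv

namespace Groth.Agent.FinGrp

variable {k : Type u} [Field k] {A : Type u} [CommRing A] [HopfAlgebra k A]

/-- A criterion for Hopf ideals. -/
theorem isHopfIdeal_of_algHom (J : Ideal A) (hε : ∀ x ∈ J, counit (R := k) x = 0)
    (hΔ : ∀ x ∈ J, Algebra.TensorProduct.map (Ideal.Quotient.mkₐ k J) (Ideal.Quotient.mkₐ k J)
      (Bialgebra.comulAlgHom k A x) = 0)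
    (hS : ∀ x ∈ J, antipode k x ∈ J) : J.IsHopfIdeal k :=
  { counit_eq_zero := fun x hx => hε x hx
    map_mkQ_comul_eq_zero := fun x hx => hΔ x hx
    antipode_mem := fun x hx => hS x hx }

/-- The ideal cut out by the augmentation ideal of a sub-bialgebra is a Hopf ideal. -/
theorem isHopfIdeal_span_aug (B : Subalgebra k A)
    (hB : ∀ b ∈ B, comul (R := k) b ∈
      LinearMap.range (TensorProduct.map B.val.toLinearMap B.val.toLinearMap))
    (hS : ∀ b ∈ B, antipode k b ∈ B) :
    (Ideal.span {a : A | a ∈ B ∧ counit (R := k) a = 0}).IsHopfIdeal k := by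
  set J := Ideal.span {a : A | a ∈ B ∧ counit (R := k) a = 0}
  let q := Ideal.Quotient.mkₐ k J
  let Ψ : A →ₐ[k] (A ⧸ J) ⊗[k] (A ⧸ J) :=
    (Algebra.TensorProduct.map q q).comp (Bialgebra.comulAlgHom k A)
  have hq : ∀ b ∈ B, q b = algebraMap k (A ⧸ J) (counit (R := k) b) := fun b hb => by
    rw [← q.commutes]
    refine Ideal.Quotient.eq.2 (Ideal.subset_span ⟨B.sub_mem hb (B.algebraMap_mem _), ?_⟩)
    simp
  have hqq : ∀ w : B ⊗[k] B, Algebra.TensorProduct.map q q
      (TensorProduct.map B.val.toLinearMap B.val.toLinearMap w) =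
      algebraMap k _ (LinearMap.mul' k k (TensorProduct.map (counit ∘ₗ B.val.toLinearMap)
        (counit ∘ₗ B.val.toLinearMap) w)) := by
    intro w
    induction w using TensorProduct.induction_on with
    | zero => simp
    | add a b ha hb => simp only [map_add, ha, hb]
    | tmul a b =>
      simp only [TensorProduct.map_tmul, Algebra.TensorProduct.map_tmul, AlgHom.toLinearMap_apply,
        Subalgebra.coe_val, hq _ a.2, hq _ b.2, LinearMap.comp_apply, LinearMap.mul'_apply, map_mul]
      rw [← map_mul, Algebra.algebraMap_eq_smul_one, Algebra.algebraMap_eq_smul_one,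
        Algebra.algebraMap_eq_smul_one, TensorProduct.tmul_smul, ← TensorProduct.smul_tmul', smul_smul,
        Algebra.TensorProduct.one_def, mul_comm]
  have hker : J ≤ RingHom.ker Ψ := by
    refine Ideal.span_le.2 fun b hb => ?_
    obtain ⟨hb, hb0⟩ := hb
    obtain ⟨w, hw⟩ := hB b hb
    show Algebra.TensorProduct.map q q (comul (R := k) b) = 0
    have h1 : LinearMap.mul' k k (TensorProduct.map (counit (R := k)) (counit (R := k)) (comul (R := k) b)) =
        counit (R := k) b := by
      have : ∀ z : A ⊗[k] A, LinearMap.mul' k k (TensorProduct.map (counit (R := k)) (counit (R := k)) z) =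
          counit (R := k) (TensorProduct.lid k A ((counit (R := k)).rTensor A z)) := by
        intro z
        induction z using TensorProduct.induction_on with
        | zero => simp
        | add a b ha hb => simp only [map_add, ha, hb]
        | tmul a b => simp
      rw [this, rTensor_counit_comul]
      simp
    rw [← hw, hqq]
    have h2 : LinearMap.mul' k k (TensorProduct.map (counit ∘ₗ B.val.toLinearMap)
        (counit ∘ₗ B.val.toLinearMap) w) = 0 := by
      rw [← hb0, ← h1, ← hw]
      congr 1
      clear hw
      induction w using TensorProduct.induction_on with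
      | zero => simp
      | add a b ha hb => rw [map_add, ha, hb, map_add, map_add]
      | tmul a b => rfl
    rw [h2, map_zero]
  refine isHopfIdeal_of_algHom J (fun x hx => ?_) (fun x hx => hker hx) fun x hx => ?_
  · exact (Ideal.span_le (I := RingHom.ker (Bialgebra.counitAlgHom k A))).2 (fun b hb => hb.2) hx
  · refine (Ideal.span_le (I := J.comap (antipodeAlgHom k A))).2 (fun b hb => ?_) hx
    exact Ideal.subset_span ⟨hS b hb.1, by
      rw [show antipodeAlgHom k A b = antipode k b from rfl, counit_antipode]
      exact hb.2⟩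

/-- A subalgebra closed under comultiplication and antipode is a Hopf algebra. -/
theorem exists_hopf_sub (B : Subalgebra k A)
    (hB : ∀ b ∈ B, comul (R := k) b ∈
      LinearMap.range (TensorProduct.map B.val.toLinearMap B.val.toLinearMap))
    (hS : ∀ b ∈ B, antipode k b ∈ B) :
    ∃ (B' : Type u) (_ : CommRing B') (_ : HopfAlgebra k B') (e : B' ≃ₐ[k] B),
      (∀ b, counit (R := k) b = counit (R := k) (e b : A)) ∧
        ∀ b, Algebra.TensorProduct.map (B.val.comp e.toAlgHom) (B.val.comp e.toAlgHom) (comul (R := k) b) =
          comul (R := k) (e b : A) := by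
  let f : B →ₐ[k] A := B.val
  let f₂ : B ⊗[k] B →ₐ[k] A ⊗[k] A := Algebra.TensorProduct.map f f
  let f₃ : B ⊗[k] (B ⊗[k] B) →ₐ[k] A ⊗[k] (A ⊗[k] A) := Algebra.TensorProduct.map f f₂
  have hf : Function.Injective f := Subtype.val_injective
  have hf₂ : Function.Injective f₂ :=
    TensorProduct.map_injective_of_flat_flat f.toLinearMap f.toLinearMap hf hf
  have hf₃ : Function.Injective f₃ :=
    TensorProduct.map_injective_of_flat_flat f.toLinearMap f₂.toLinearMap hf hf₂
  have hex : ∀ b : B, ∃ w, f₂ w = comul (R := k) (b : A) := fun b => hB _ b.2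
  choose dfun hd using hex
  let Δ : B →ₐ[k] B ⊗[k] B :=
    { toFun := dfun
      map_one' := hf₂ (by simp [hd])
      map_mul' := fun x y => hf₂ (by simp [hd])
      map_zero' := hf₂ (by simp [hd])
      map_add' := fun x y => hf₂ (by simp [hd])
      commutes' := fun r => hf₂ (by
        rw [hd, f₂.commutes]
        exact (Bialgebra.comulAlgHom k A).commutes r) }
  let ε : B →ₐ[k] k := (Bialgebra.counitAlgHom k A).comp f
  let σ : B →ₐ[k] B := AlgHom.codRestrict ((antipodeAlgHom k A).comp f) B fun b => hS _ b.2
  have hΔ : ∀ b, f₂ (Δ b) = comul (R := k) (f b) := hd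
  have a1 : (Algebra.TensorProduct.assoc k k k B B B).toAlgHom.comp
      ((Algebra.TensorProduct.map Δ (AlgHom.id k B)).comp Δ) =
      (Algebra.TensorProduct.map (AlgHom.id k B) Δ).comp Δ := by
    refine AlgHom.ext fun b => hf₃ ?_
    have e1 : ∀ w : B ⊗[k] B, f₃ (Algebra.TensorProduct.assoc k k k B B B
        (Algebra.TensorProduct.map Δ (AlgHom.id k B) w)) =
        TensorProduct.assoc k A A A ((comul (R := k)).rTensor A (f₂ w)) := by
      intro w
      induction w using TensorProduct.induction_on with
      | zero => simp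
      | add a b ha hb => simp only [map_add, ha, hb]
      | tmul a b =>
        simp only [f₂, Algebra.TensorProduct.map_tmul, LinearMap.rTensor_tmul, ← hΔ, AlgHom.coe_id, id_eq]
        induction Δ a using TensorProduct.induction_on with
        | zero => simp
        | add x y hx hy => simp only [TensorProduct.add_tmul, map_add, hx, hy]
        | tmul x y => simp [f₃, f₂]
    have e2 : ∀ w : B ⊗[k] B, f₃ (Algebra.TensorProduct.map (AlgHom.id k B) Δ w) =
        (comul (R := k)).lTensor A (f₂ w) := by
      intro w
      induction w using TensorProduct.induction_on with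
      | zero => simp
      | add a b ha hb => simp only [map_add, ha, hb]
      | tmul a b => simp [f₃, f₂, ← hΔ]
    show f₃ (Algebra.TensorProduct.assoc k k k B B B (Algebra.TensorProduct.map Δ (AlgHom.id k B) (Δ b))) =
      f₃ (Algebra.TensorProduct.map (AlgHom.id k B) Δ (Δ b))
    rw [e1, e2, hΔ, coassoc_apply]
  have a2 : (Algebra.TensorProduct.map ε (AlgHom.id k B)).comp Δ =
      (Algebra.TensorProduct.lid k B).symm.toAlgHom := by
    refine AlgHom.ext fun b => (Algebra.TensorProduct.lid k B).injective (hf ?_)
    have e1 : ∀ w : B ⊗[k] B, f (Algebra.TensorProduct.lid k B (Algebra.TensorProduct.map ε (AlgHom.id k B) w)) =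
        TensorProduct.lid k A ((counit (R := k)).rTensor A (f₂ w)) := by
      intro w
      induction w using TensorProduct.induction_on with
      | zero => simp
      | add a b ha hb => simp only [map_add, ha, hb]
      | tmul a b => simp [ε, f₂]
    rw [AlgHom.comp_apply, e1, hΔ, rTensor_counit_comul]
    simp
  have a3 : (Algebra.TensorProduct.map (AlgHom.id k B) ε).comp Δ =
      (Algebra.TensorProduct.rid k k B).symm.toAlgHom := by
    refine AlgHom.ext fun b => (Algebra.TensorProduct.rid k k B).injective (hf ?_)
    have e1 : ∀ w : B ⊗[k] B, f (Algebra.TensorProduct.rid k k B (Algebra.TensorProduct.map (AlgHom.id k B) ε w)) =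
        TensorProduct.rid k A ((counit (R := k)).lTensor A (f₂ w)) := by
      intro w
      induction w using TensorProduct.induction_on with
      | zero => simp
      | add a b ha hb => simp only [map_add, ha, hb]
      | tmul a b => simp [ε, f₂]
    rw [AlgHom.comp_apply, e1, hΔ, lTensor_counit_comul]
    simp
  letI bi : Bialgebra k B := Bialgebra.ofAlgHom Δ ε a1 a2 a3
  have a4 : (Algebra.TensorProduct.lift σ (AlgHom.id k B) fun _ _ => Commute.all _ _).comp Δ =
      (Algebra.ofId k B).comp ε := by
    refine AlgHom.ext fun b => hf ?_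
    have e1 : ∀ w : B ⊗[k] B, f (Algebra.TensorProduct.lift σ (AlgHom.id k B) (fun _ _ => Commute.all _ _) w) =
        LinearMap.mul' k A ((antipode k).rTensor A (f₂ w)) := by
      intro w
      induction w using TensorProduct.induction_on with
      | zero => simp
      | add a b ha hb => simp only [map_add, ha, hb]
      | tmul a b => simp [σ, f₂, f, antipodeAlgHom] <;> rfl
    rw [AlgHom.comp_apply, e1, hΔ, mul_antipode_rTensor_comul_apply]
    simp [ε, f]
  have a5 : (Algebra.TensorProduct.lift (AlgHom.id k B) σ fun _ _ => Commute.all _ _).comp Δ =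
      (Algebra.ofId k B).comp ε := by
    refine AlgHom.ext fun b => hf ?_
    have e1 : ∀ w : B ⊗[k] B, f (Algebra.TensorProduct.lift (AlgHom.id k B) σ (fun _ _ => Commute.all _ _) w) =
        LinearMap.mul' k A ((antipode k).lTensor A (f₂ w)) := by
      intro w
      induction w using TensorProduct.induction_on with
      | zero => simp
      | add a b ha hb => simp only [map_add, ha, hb]
      | tmul a b => simp [σ, f₂, f, antipodeAlgHom] <;> rfl
    rw [AlgHom.comp_apply, e1, hΔ, mul_antipode_lTensor_comul_apply]
    simp [ε, f]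
  exact ⟨B, inferInstance, HopfAlgebra.ofAlgHom σ a4 a5, AlgEquiv.refl, fun b => rfl, fun b => hΔ b⟩

/-- A nilpotent augmentation ideal of an algebra of dimension `d` has vanishing `d`-th power. -/
theorem pow_finrank_eq_bot [Module.Finite k A] {I : Ideal A} (hI : IsNilpotent I) :
    I ^ Module.finrank k A = ⊥ := by
  have key : ∀ i, I ^ i = ⊥ ∨ Module.finrank k ((I ^ i).restrictScalars k) + i ≤ Module.finrank k A := by
    intro i
    induction i with
    | zero => exact .inr (by simpa using Submodule.finrank_le _)
    | succ i ih =>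
      rcases ih with h | h
      · exact .inl (by rw [pow_succ, h, Ideal.bot_mul])
      rcases eq_or_lt_of_le (Ideal.pow_le_pow_right (I := I) (Nat.le_succ i)) with heq | hlt
      · left
        have : ∀ j, I ^ (i + j) = I ^ i := by
          intro j
          induction j with
          | zero => rfl
          | succ j ih => rw [← add_assoc, pow_succ, ih, ← pow_succ, heq]
        obtain ⟨N, hN⟩ := hI
        rw [heq, ← this N, pow_add, hN, mul_zero]
        rfl
      · right
        have hlt' : (I ^ (i + 1)).restrictScalars k < (I ^ i).restrictScalars k := hlt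
        have := Submodule.finrank_lt_finrank_of_lt hlt'
        omega
  rcases key (Module.finrank k A) with h | h
  · exact h
  · have h0 : Module.finrank k ((I ^ Module.finrank k A).restrictScalars k) = 0 := by omega
    rw [Submodule.finrank_eq_zero] at h0
    exact (Submodule.restrictScalars_eq_bot_iff k _ _).1 h0

set_option maxHeartbeats 1000000 in
/-- A finite Hopf algebra is free over a local sub-Hopf-algebra, of rank the dimension of the quotient. -/
theorem finrank_eq_mul_of_sub [Module.Finite k A] (B : Subalgebra k A)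
    (hB : ∀ b ∈ B, comul (R := k) b ∈
      LinearMap.range (TensorProduct.map B.val.toLinearMap B.val.toLinearMap))
    (hloc : ∀ b ∈ B, counit (R := k) b = 0 → IsNilpotent b) :
    Module.finrank k A = Module.finrank k B *
      Module.finrank k (A ⧸ Ideal.span {a : A | a ∈ B ∧ counit (R := k) a = 0}) := by
  classical
  set J := Ideal.span {a : A | a ∈ B ∧ counit (R := k) a = 0}
  let q := Ideal.Quotient.mkₐ k J
  let bas := Module.finBasis k (A ⧸ J)
  set m := Module.finrank k (A ⧸ J)
  choose v hv using fun i => Ideal.Quotient.mk_surjective (I := J) (bas i)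
  have hqv : ∀ i, q (v i) = bas i := hv
  let F : (Fin m → B) →ₗ[k] A := ∑ i, ((LinearMap.mulRight k (v i)).comp B.val.toLinearMap).comp (LinearMap.proj i)
  have hF : ∀ s, F s = ∑ i, (s i : A) * v i := fun s => by simp [F]
  -- generation
  have hmul : ∀ b ∈ B, ∀ x ∈ LinearMap.range F, b * x ∈ LinearMap.range F := by
    rintro b hb _ ⟨s, rfl⟩
    refine ⟨fun i => ⟨b, hb⟩ * s i, ?_⟩
    simp [hF, Finset.mul_sum, mul_assoc]
  have hstep : ∀ a, ∃ x ∈ LinearMap.range F, a - x ∈ J := fun a => by
    refine ⟨∑ i, bas.repr (q a) i • v i, ⟨fun i => bas.repr (q a) i • (1 : B), by simp [hF]⟩, ?_⟩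
    rw [← Ideal.Quotient.eq_zero_iff_mem]
    show q (a - ∑ i, bas.repr (q a) i • v i) = 0
    simp [hqv, bas.sum_repr]
  have hnilJ : IsNilpotent J := by
    have hle : J ≤ nilradical A := Ideal.span_le.2 fun b hb => mem_nilradical.2 (hloc b hb.1 hb.2)
    haveI : IsArtinianRing A := IsArtinianRing.of_finite k A
    obtain ⟨N, hN⟩ := (IsArtinianRing.isNilpotent_nilradical (R := A))
    exact ⟨N, le_bot_iff.1 ((Ideal.pow_right_mono hle N).trans hN.le)⟩
  have hpow : ∀ j, ∀ a, ∃ x ∈ LinearMap.range F, a - x ∈ J ^ j := by
    intro j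
    induction j with
    | zero => exact fun a => ⟨0, zero_mem _, by simp⟩
    | succ j ih =>
      have H : ∀ y ∈ J, ∀ c, ∃ x ∈ LinearMap.range F, c * y - x ∈ J ^ (j + 1) := by
        intro y hy
        induction hy using Submodule.span_induction with
        | mem b hb =>
          intro c
          obtain ⟨x, hx, hcx⟩ := ih c
          refine ⟨b * x, hmul b hb.1 x hx, ?_⟩
          rw [mul_comm b x, ← sub_mul, pow_succ]
          exact Ideal.mul_mem_mul hcx (Ideal.subset_span hb)
        | zero => exact fun c => ⟨0, zero_mem _, by simp⟩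
        | add y z _ _ hy hz =>
          intro c
          obtain ⟨x, hx, h1⟩ := hy c
          obtain ⟨x', hx', h2⟩ := hz c
          exact ⟨x + x', add_mem hx hx', by rw [mul_add, add_sub_add_comm]; exact add_mem h1 h2⟩
        | smul d y _ hy =>
          intro c
          obtain ⟨x, hx, h⟩ := hy (c * d)
          exact ⟨x, hx, by rwa [smul_eq_mul, ← mul_assoc]⟩
      intro a
      obtain ⟨x, hx, hax⟩ := hstep a
      obtain ⟨x', hx', h'⟩ := H _ hax 1
      exact ⟨x + x', add_mem hx hx', by rwa [one_mul, sub_sub] at h'⟩
  have hsurj : Function.Surjective F := by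
    intro a
    obtain ⟨N, hN⟩ := hnilJ
    obtain ⟨x, ⟨s, rfl⟩, h⟩ := hpow N a
    rw [hN] at h
    exact ⟨s, (sub_eq_zero.1 h).symm⟩
  -- independence: the Galois map
  let Θ : A ⊗[k] A →ₐ[A] A ⊗[k] A :=
    Algebra.TensorProduct.lift (Algebra.ofId A (A ⊗[k] A)) (Bialgebra.comulAlgHom k A)
      (fun _ _ => Commute.all _ _)
  let Φ : A ⊗[k] A →ₗ[A] A ⊗[k] (A ⧸ J) :=
    (Algebra.TensorProduct.map (AlgHom.id A A) q).toLinearMap ∘ₗ Θ.toLinearMap
  have hΘ : ∀ a c, Θ (a ⊗ₜ[k] c) = (a ⊗ₜ[k] (1 : A)) * comul (R := k) c := fun a c => by simp [Θ]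
  have hΘsurj : Function.Surjective Θ := by
    intro z
    induction z using TensorProduct.induction_on with
    | zero => exact ⟨0, map_zero Θ⟩
    | add z w hz hw =>
      obtain ⟨z', rfl⟩ := hz
      obtain ⟨w', rfl⟩ := hw
      exact ⟨z' + w', map_add Θ _ _⟩
    | tmul a c =>
      refine ⟨(a ⊗ₜ[k] (1 : A)) * (antipode k).rTensor A (comul (R := k) c), ?_⟩
      rw [map_mul, show Θ (a ⊗ₜ[k] (1 : A)) = a ⊗ₜ[k] 1 by simp [hΘ, Algebra.TensorProduct.one_def]]
      let M : A ⊗[k] (A ⊗[k] A) →ₗ[k] A ⊗[k] A :=
        (LinearMap.mul' k A ∘ₗ (antipode k).rTensor A).rTensor A ∘ₗ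
          (TensorProduct.assoc k A A A).symm.toLinearMap
      have h1 : ∀ w : A ⊗[k] A, Θ ((antipode k).rTensor A w) = M ((comul (R := k)).lTensor A w) := by
        intro w
        induction w using TensorProduct.induction_on with
        | zero => simp
        | add x y hx hy => simp only [map_add, hx, hy]
        | tmul x y =>
          simp only [LinearMap.rTensor_tmul, hΘ, LinearMap.lTensor_tmul]
          induction comul (R := k) y using TensorProduct.induction_on with
          | zero => simp
          | add u w hu hw => simp only [mul_add, TensorProduct.tmul_add, map_add, hu, hw]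
          | tmul u w => simp [M]
      rw [h1, ← coassoc_apply]
      have h2 : ∀ w : A ⊗[k] A, M (TensorProduct.assoc k A A A ((comul (R := k)).rTensor A w)) =
          (LinearMap.mul' k A ∘ₗ (antipode k).rTensor A ∘ₗ comul).rTensor A w := by
        intro w
        induction w using TensorProduct.induction_on with
        | zero => simp
        | add x y hx hy => simp only [map_add, hx, hy]
        | tmul x y => simp [M]
      have h3 : LinearMap.mul' k A ∘ₗ (antipode k).rTensor A ∘ₗ comul = Algebra.linearMap k A ∘ₗ counit :=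
        mul_antipode_rTensor_comul
      rw [h2, h3, LinearMap.rTensor_comp_apply, rTensor_counit_comul]
      simp [Algebra.TensorProduct.tmul_mul_tmul]
  have hΦsurj : Function.Surjective Φ := by
    intro z
    obtain ⟨w, hw⟩ := TensorProduct.map_surjective (g := LinearMap.id (R := k) (M := A))
      (g' := q.toLinearMap) Function.surjective_id Ideal.Quotient.mk_surjective z
    obtain ⟨w', rfl⟩ := hΘsurj w
    refine ⟨w', ?_⟩
    rw [← hw]
    show Algebra.TensorProduct.map (AlgHom.id A A) q (Θ w') = _
    induction Θ w' using TensorProduct.induction_on with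
    | zero => simp
    | add x y hx hy => simp only [map_add, hx, hy]
    | tmul x y => simp
  have hbal : ∀ (a : A) (b : B) (c : A), Φ (a ⊗ₜ[k] ((b : A) * c)) = (a * b) • Φ ((1 : A) ⊗ₜ[k] c) := by
    intro a b c
    obtain ⟨w, hw⟩ := hB b b.2
    have h1 : Algebra.TensorProduct.map (AlgHom.id A A) q (comul (R := k) (b : A)) = (b : A) ⊗ₜ[k] 1 := by
      have key : ∀ u : B ⊗[k] B, Algebra.TensorProduct.map (AlgHom.id A A) q
          (TensorProduct.map B.val.toLinearMap B.val.toLinearMap u) =
          (TensorProduct.rid k A ((counit (R := k)).lTensor A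
            (TensorProduct.map B.val.toLinearMap B.val.toLinearMap u))) ⊗ₜ[k] (1 : A ⧸ J) := by
        intro u
        induction u using TensorProduct.induction_on with
        | zero => simp
        | add x y hx hy => simp only [map_add, TensorProduct.add_tmul, hx, hy]
        | tmul x y =>
          have hqy : q (y : A) = algebraMap k (A ⧸ J) (counit (R := k) (y : A)) := by
            rw [← q.commutes]
            refine Ideal.Quotient.eq.2 (Ideal.subset_span ⟨B.sub_mem y.2 (B.algebraMap_mem _), ?_⟩)
            simp
          simp [hqy, Algebra.algebraMap_eq_smul_one, TensorProduct.smul_tmul]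
      rw [← hw, key, hw, lTensor_counit_comul]
      simp
    simp only [Φ, LinearMap.comp_apply, AlgHom.toLinearMap_apply]
    rw [hΘ, hΘ, Bialgebra.comul_mul, map_mul, map_mul, h1, map_mul, ← Algebra.TensorProduct.one_def,
      map_one, one_mul]
    induction Algebra.TensorProduct.map (AlgHom.id A A) q (comul (R := k) c) using TensorProduct.induction_on with
    | zero => simp
    | add x y hx hy => simp only [mul_add, smul_add, hx, hy]
    | tmul x y => simp [TensorProduct.smul_tmul', mul_assoc]
  let w : Fin m → A ⊗[k] (A ⧸ J) := fun i => Φ ((1 : A) ⊗ₜ[k] v i)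
  have hspan : ⊤ ≤ Submodule.span A (Set.range w) := by
    rintro z -
    obtain ⟨y, rfl⟩ := hΦsurj z
    induction y using TensorProduct.induction_on with
    | zero => simp
    | add x y hx hy => rw [map_add]; exact add_mem hx hy
    | tmul a c =>
      obtain ⟨s, rfl⟩ := hsurj c
      rw [hF, TensorProduct.tmul_sum, map_sum]
      exact sum_mem fun i _ => by rw [hbal]; exact Submodule.smul_mem _ _ (Submodule.subset_span ⟨i, rfl⟩)
  have hli : LinearIndependent A w := by
    haveI : Nontrivial A := Bialgebra.nontrivial k
    refine linearIndependent_of_top_le_span_of_card_eq_finrank hspan ?_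
    rw [Module.finrank_eq_card_basis (Algebra.TensorProduct.basis A bas)]
  have hinj : Function.Injective F := by
    refine (injective_iff_map_eq_zero F).2 fun s hs => funext fun i => Subtype.ext ?_
    have h1 : ∑ i, (s i : A) • w i = 0 := by
      rw [hF] at hs
      have h2 := congrArg (fun x => Φ ((1 : A) ⊗ₜ[k] x)) hs
      simpa [TensorProduct.tmul_sum, hbal] using h2
    exact Fintype.linearIndependent_iff.1 hli _ h1 i
  rw [← (LinearEquiv.ofBijective F ⟨hinj, hsurj⟩).finrank_eq, Module.finrank_pi_fintype]
  simp [mul_comm]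

end Groth.Agent.FinGrp
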