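import Groth.Agent.Lib.FinGrp20.Main
import Mathlib.FieldTheory.IsAlgClosed.AlgebraicClosure
import Mathlib.Algebra.Field.ULift
import Mathlib.RingTheory.Spectrum.Prime.FreeLocus
import Mathlib.LinearAlgebra.Dual.Lemmas

/-!
# Finite group schemes over arbitrary fields
-/

universe u v w

open TensorProduct Coalgebra WithConv

namespace Groth.Agent.FinGrp

variable (k : Type u) [Field k] (A : Type v) [CommRing A] [HopfAlgebra k A] [Module.Finite k A]

/-- A finite group scheme over a field is killed by its order. -/
theorem convPow_finrank_eq_one : (toConv (AlgHom.id k A)) ^ Module.finrank k A = 1 := by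
  let K := AlgebraicClosure (ULift.{v} k)
  have h := convPow_finrank_eq_one_of_isAlgClosed (k := K) (A := K ⊗[k] A)
  rw [Module.finrank_baseChange] at h
  refine ofConv_injective (AlgHom.ext fun a => ?_)
  have hinj : Function.Injective fun a : A => (1 : K) ⊗ₜ[k] a :=
    Algebra.TensorProduct.includeRight_injective (algebraMap k K).injective
  refine hinj ?_
  show (1 : K) ⊗ₜ[k] _ = (1 : K) ⊗ₜ[k] _
  rw [← OT.powId_one_tmul, h, AlgHom.convOne_apply, AlgHom.convOne_apply, OT.counit_one_tmul,
    ← IsScalarTower.algebraMap_apply]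
  exact ((Algebra.TensorProduct.includeRight : A →ₐ[k] K ⊗[k] A).commutes _).symm

/-- The order of a connected finite group scheme is a power of the characteristic exponent. -/
theorem exists_finrank_eq_ringExpChar_pow [IsLocalRing A] :
    ∃ n : ℕ, Module.finrank k A = ringExpChar k ^ n := by
  let K := AlgebraicClosure (ULift.{v} k)
  obtain ⟨q, hq⟩ := ExpChar.exists k
  haveI : ExpChar K q := expChar_of_injective_algebraMap (algebraMap k K).injective q
  haveI : IsArtinianRing A := IsArtinianRing.of_finite k A
  have hloc : ∀ a : A, counit (R := k) a = 0 → IsNilpotent a := by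
    intro a ha
    rw [nilpotent_iff_mem_prime]
    intro P hP
    haveI := hP
    rw [IsLocalRing.eq_maximalIdeal (IsArtinianRing.isMaximal_of_isPrime P),
      IsLocalRing.mem_maximalIdeal, mem_nonunits_iff]
    intro hu
    have := hu.map (Bialgebra.counitAlgHom k A)
    rw [Bialgebra.counitAlgHom_apply, ha] at this
    exact not_isUnit_zero this
  have hloc' : ∀ z : K ⊗[k] A, counit (R := K) z = 0 → IsNilpotent z := by
    intro z hz
    have key : ∀ z : K ⊗[k] A, IsNilpotent (z - algebraMap K (K ⊗[k] A) (counit (R := K) z)) := by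
      intro z
      induction z using TensorProduct.induction_on with
      | zero => simp
      | add a b ha hb =>
        simp only [map_add, add_sub_add_comm]
        exact Commute.isNilpotent_add (Commute.all _ _) ha hb
      | tmul c a =>
        have h1 := hloc (a - algebraMap k A (counit (R := k) a)) (by simp)
        have h2 : c ⊗ₜ[k] a - algebraMap K (K ⊗[k] A) (counit (R := K) (c ⊗ₜ[k] a)) =
            c • ((1 : K) ⊗ₜ[k] (a - algebraMap k A (counit (R := k) a))) := by
          rw [TensorProduct.counit_tmul, Algebra.TensorProduct.algebraMap_apply, TensorProduct.tmul_sub,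
            smul_sub, TensorProduct.smul_tmul', TensorProduct.smul_tmul', smul_eq_mul, mul_one,
            Algebra.algebraMap_eq_smul_one (counit (R := k) a), TensorProduct.tmul_smul,
            TensorProduct.smul_tmul']
          rfl
        rw [h2, Algebra.smul_def]
        exact Commute.isNilpotent_mul_left (Commute.all _ _)
          (h1.map (Algebra.TensorProduct.includeRight : A →ₐ[k] K ⊗[k] A))
    simpa [hz] using key z
  obtain ⟨n, hn⟩ := exists_finrank_eq_pow (k := K) (A := K ⊗[k] A) hloc' q
  exact ⟨n, by rw [ringExpChar.eq k q, ← hn, Module.finrank_baseChange]⟩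

/-- A finite locally free group scheme over a reduced base is killed by its order. -/
theorem convPow_rank_eq_one {R₀ : Type u} {A : Type v} [CommRing R₀] [IsReduced R₀]
    [CommRing A] [HopfAlgebra R₀ A] [Module.Finite R₀ A] [Module.Projective R₀ A] (n : ℕ)
    (hn : ∀ p : PrimeSpectrum R₀, Module.rankAtStalk (R := R₀) A p = n)
    {R : Type w} [CommRing R] [Algebra R₀ R] (g : A →ₐ[R₀] R) : toConv g ^ n = 1 := by
  have hid : (toConv (AlgHom.id R₀ A)) ^ n = 1 := by
    refine ofConv_injective (AlgHom.ext fun a => ?_)
    rw [← sub_eq_zero, ← Module.forall_dual_apply_eq_zero_iff R₀]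
    intro f
    refine IsNilpotent.eq_zero (nilpotent_iff_mem_prime.2 fun P hP => ?_)
    let K := P.ResidueField
    have h := convPow_finrank_eq_one K (K ⊗[R₀] A)
    rw [show Module.finrank K (K ⊗[R₀] A) = n from
      (Module.rankAtStalk_eq ⟨P, hP⟩).symm.trans (hn ⟨P, hP⟩)] at h
    have h1 : (1 : K) ⊗ₜ[R₀] ((toConv (AlgHom.id R₀ A)) ^ n).ofConv a =
        (1 : K) ⊗ₜ[R₀] (1 : WithConv (A →ₐ[R₀] A)).ofConv a := by
      rw [← OT.powId_one_tmul, h, AlgHom.convOne_apply, AlgHom.convOne_apply, OT.counit_one_tmul,
        ← IsScalarTower.algebraMap_apply]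
      exact ((Algebra.TensorProduct.includeRight : A →ₐ[R₀] K ⊗[R₀] A).commutes _).symm
    have h2 := congrArg (TensorProduct.rid R₀ K ∘ₗ (f.lTensor K) : K ⊗[R₀] A →ₗ[R₀] K) h1
    rw [← sub_eq_zero, ← map_sub, ← TensorProduct.tmul_sub] at h2
    rw [← Ideal.algebraMap_residueField_eq_zero, map_sub, map_sub]
    simpa [← Algebra.algebraMap_eq_smul_one] using h2
  have key : ∀ m : ℕ, (toConv g ^ m).ofConv = g.comp ((toConv (AlgHom.id R₀ A)) ^ m).ofConv := by
    intro m
    induction m with
    | zero => exact AlgHom.ext fun x => by simp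
    | succ m ih => rw [pow_succ, pow_succ, AlgHom.comp_convMul_distrib, ← ih]; rfl
  refine ofConv_injective ?_
  rw [key, hid]
  exact AlgHom.ext fun x => by simp

end Groth.Agent.FinGrp
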