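import Groth.Agent.Lib.FinGrp20.Basic
import Groth.Agent.Lib.HeightOne.Field
import Mathlib.FieldTheory.Perfect
import Mathlib.Algebra.CharP.Algebra

/-!
# The rank of a connected finite group scheme over a field
-/

universe u

open TensorProduct Coalgebra HopfAlgebra

namespace Groth.Agent.FinGrp

variable {k : Type u} [Field k] {A : Type u} [CommRing A] [HopfAlgebra k A] [Module.Finite k A]

theorem isUnit_of_counit_eq_one (hloc : ∀ a : A, counit (R := k) a = 0 → IsNilpotent a) {u : A}
    (hu : counit (R := k) u = 1) : IsUnit u := by
  have := (hloc (u - 1) (by rw [map_sub, hu, Bialgebra.counit_one, sub_self])).isUnit_one_add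
  simpa using this

/-- In characteristic zero, connected finite group schemes are trivial. -/
theorem finrank_eq_one_of_charZero [CharZero k] (hloc : ∀ a : A, counit (R := k) a = 0 → IsNilpotent a) :
    Module.finrank k A = 1 := by
  classical
  let I : Ideal A := RingHom.ker (Bialgebra.counitAlgHom k A)
  have hmem : ∀ a : A, a - algebraMap k A (counit (R := k) a) ∈ I := fun a => by simp [I]
  have hI0 : I = ⊥ := by
    have hle : I ≤ I ^ 2 := by
      intro x hx
      by_contra hx2
      let W : Submodule k A := (I ^ 2).restrictScalars k ⊔ Submodule.span k {1}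
      have hxW : x ∉ W := fun h => by
        obtain ⟨y, hy, z, hz, rfl⟩ := Submodule.mem_sup.1 h
        obtain ⟨c, rfl⟩ := Submodule.mem_span_singleton.1 hz
        have hy' : counit (R := k) y = 0 := Ideal.pow_le_self two_ne_zero hy
        have hc : c = 0 := by
          have : counit (R := k) (y + c • (1 : A)) = 0 := hx
          simpa [hy'] using this
        exact hx2 (by simpa [hc] using hy)
      obtain ⟨d, hdx, hdW⟩ := Submodule.exists_dual_map_eq_bot_of_notMem hxW inferInstance
      have hdW' : ∀ w ∈ W, d w = 0 := fun w hw => by
        have : d w ∈ W.map d := Submodule.mem_map_of_mem hw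
        rwa [hdW, Submodule.mem_bot] at this
      have hder : ∀ a c, d (a * c) = (Bialgebra.counitAlgHom k A) a * d c +
          (Bialgebra.counitAlgHom k A) c * d a := by
        intro a c
        have h2 : (a - algebraMap k A (counit (R := k) a)) * (c - algebraMap k A (counit (R := k) c)) ∈ I ^ 2 := by
          rw [pow_two]; exact Ideal.mul_mem_mul (hmem a) (hmem c)
        have h0 := hdW' _ (Submodule.mem_sup_left h2)
        have hone : ∀ r : k, d (algebraMap k A r) = 0 := fun r => by
          refine hdW' _ (Submodule.mem_sup_right ?_)
          rw [Algebra.algebraMap_eq_smul_one]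
          exact Submodule.smul_mem _ _ (Submodule.mem_span_singleton_self 1)
        have e : a * c = (a - algebraMap k A (counit (R := k) a)) * (c - algebraMap k A (counit (R := k) c)) +
            counit (R := k) a • c + counit (R := k) c • a -
            algebraMap k A (counit (R := k) a * counit (R := k) c) := by
          simp only [Algebra.smul_def, map_mul]; ring
        rw [e, map_sub, map_add, map_add, h0, map_smul, map_smul, hone]
        simp
      let D := HeightOne.invD d
      have hD : ∀ a c, D (a * c) = a * D c + c * D a := HeightOne.invD_mul hder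
      have hD1 : D 1 = 0 := by simpa using hD 1 1
      have hpow : ∀ n : ℕ, D (x ^ (n + 1)) = ((n + 1 : ℕ) : A) * (x ^ n * D x) := by
        intro n
        induction n with
        | zero => simp
        | succ n ih => rw [pow_succ, hD, ih]; push_cast; ring
      have hu : IsUnit (D x) := by
        have h1 : counit (R := k) (D x) = d x := HeightOne.counit_invD d x
        have : IsUnit (algebraMap k A (d x)⁻¹ * D x) := isUnit_of_counit_eq_one hloc (by
          rw [← Algebra.smul_def, map_smul, h1, smul_eq_mul, inv_mul_cancel₀ hdx])
        exact isUnit_of_mul_isUnit_right this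
      obtain ⟨N, hN⟩ := hloc x hx
      induction N with
      | zero =>
        rw [pow_zero] at hN
        exact hx2 (by rw [← one_mul x, hN, zero_mul]; exact zero_mem _)
      | succ N ih =>
        refine ih ?_
        have := hpow N
        rw [hN, map_zero] at this
        have hN' : IsUnit ((N + 1 : ℕ) : A) := by
          rw [← map_natCast (algebraMap k A)]
          exact (Ne.isUnit (Nat.cast_ne_zero.2 (Nat.succ_ne_zero N))).map _
        exact hu.mul_left_eq_zero.1 (hN'.mul_right_eq_zero.1 this.symm)
    haveI : IsArtinianRing A := IsArtinianRing.of_finite k A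
    have hnil : I ≤ nilradical A := fun x hx => mem_nilradical.2 (hloc x hx)
    obtain ⟨N, hN⟩ := IsArtinianRing.isNilpotent_nilradical (R := A)
    have hall : ∀ j, I ≤ I ^ (j + 1) := by
      intro j
      induction j with
      | zero => simp
      | succ j ih =>
        calc I ≤ I ^ 2 := hle
          _ = I * I := pow_two I
          _ ≤ I ^ (j + 1) * I := Ideal.mul_mono_left ih
          _ = I ^ (j + 1 + 1) := (pow_succ _ _).symm
    exact le_bot_iff.1 ((hall N).trans ((Ideal.pow_le_pow_right (Nat.le_succ N)).trans
      ((Ideal.pow_right_mono hnil N).trans hN.le)))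
  haveI : Nontrivial A := Bialgebra.nontrivial k
  have hbij : Function.Bijective (algebraMap k A) := by
    refine ⟨(algebraMap k A).injective, fun a => ⟨counit (R := k) a, ?_⟩⟩
    have := hmem a
    rw [hI0, Submodule.mem_bot, sub_eq_zero] at this
    exact this.symm
  rw [← (LinearEquiv.ofBijective (Algebra.linearMap k A) hbij).finrank_eq, Module.finrank_self]

/-- The rank of a connected finite group scheme over a perfect field of positive characteristic. -/
theorem exists_finrank_eq_pow_of_perfect (p : ℕ) [Fact p.Prime] [CharP k p] [PerfectField k] :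
    ∀ (d : ℕ) (A : Type u) [CommRing A] [HopfAlgebra k A] [Module.Finite k A],
      (∀ a : A, counit (R := k) a = 0 → IsNilpotent a) → Module.finrank k A = d →
        ∃ n, Module.finrank k A = p ^ n := by
  intro d
  induction d using Nat.strong_induction_on with
  | _ d ih =>
    intro A _ _ _ hloc hd
    haveI : Nontrivial A := Bialgebra.nontrivial k
    haveI : CharP A p := charP_of_injective_algebraMap (algebraMap k A).injective p
    haveI : ExpChar A p := ExpChar.prime Fact.out
    haveI : ExpChar k p := ExpChar.prime Fact.out
    haveI : PerfectRing k p := PerfectField.toPerfectRing p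
    let B : Subalgebra k A :=
      { (frobenius A p).range.toSubsemiring with
        algebraMap_mem' := fun r => by
          obtain ⟨s, hs⟩ := surjective_frobenius k p r
          exact ⟨algebraMap k A s, by rw [frobenius_def, ← map_pow, ← frobenius_def, hs]⟩ }
    have hmemB : ∀ a, a ∈ B ↔ ∃ x, x ^ p = a := fun a => Iff.rfl
    have hsmul : ∀ (c : k) (b : A), b ∈ B → c • b ∈ B := fun c b hb => B.smul_mem hb c
    have hB : ∀ b ∈ B, comul (R := k) b ∈
        LinearMap.range (TensorProduct.map B.val.toLinearMap B.val.toLinearMap) := by
      intro b hb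
      obtain ⟨x, rfl⟩ := (hmemB b).1 hb
      rw [Bialgebra.comul_pow]
      induction comul (R := k) x using TensorProduct.induction_on with
      | zero => rw [zero_pow (Fact.out (p := p.Prime)).ne_zero]; exact zero_mem _
      | add u v hu hv =>
        haveI : Nontrivial (A ⊗[k] A) := (Bialgebra.counitAlgHom k (A ⊗[k] A)).domain_nontrivial
        haveI : CharP (A ⊗[k] A) p := charP_of_injective_algebraMap (algebraMap k (A ⊗[k] A)).injective p
        rw [add_pow_char]
        exact add_mem hu hv
      | tmul a c =>
        exact ⟨⟨a ^ p, (hmemB _).2 ⟨a, rfl⟩⟩ ⊗ₜ[k] ⟨c ^ p, (hmemB _).2 ⟨c, rfl⟩⟩, by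
          simp [Algebra.TensorProduct.tmul_pow]⟩
    have hS : ∀ b ∈ B, antipode k b ∈ B := by
      intro b hb
      obtain ⟨x, rfl⟩ := (hmemB b).1 hb
      exact (hmemB _).2 ⟨antipode k x, ((antipodeAlgHom k A).map_pow x p).symm⟩
    set J := Ideal.span {a : A | a ∈ B ∧ counit (R := k) a = 0}
    haveI : J.IsHopfIdeal k := isHopfIdeal_span_aug B hB hS
    have hfree := finrank_eq_mul_of_sub B hB (fun b _ hb => hloc b hb)
    obtain ⟨r, hr⟩ : ∃ r, Module.finrank k (A ⧸ J) = p ^ r := by
      obtain ⟨n, -, -, -, hn⟩ := HeightOne.exists_generators (k := k) (A := A ⧸ J) (p := p) fun a ha => by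
        obtain ⟨x, rfl⟩ := Ideal.Quotient.mk_surjective a
        have ha' : counit (R := k) x = 0 := ha
        rw [← map_pow, Ideal.Quotient.eq_zero_iff_mem]
        refine Ideal.subset_span ⟨(hmemB _).2 ⟨x, rfl⟩, ?_⟩
        rw [Bialgebra.counit_pow, ha', zero_pow (Fact.out (p := p.Prime)).ne_zero]
      exact ⟨n, hn⟩
    have hpos : 0 < Module.finrank k B := Module.finrank_pos
    rcases Nat.lt_or_ge (Module.finrank k B) (Module.finrank k A) with hlt | hge
    · obtain ⟨B', _, _, e, he, -⟩ := exists_hopf_sub B hB hS
      haveI : Module.Finite k B' := Module.Finite.equiv e.symm.toLinearEquiv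
      obtain ⟨n, hn⟩ := ih (Module.finrank k B') (by rw [e.toLinearEquiv.finrank_eq, ← hd]; exact hlt) B'
        (fun b hb => by
          obtain ⟨N, hN⟩ := hloc (e b : A) ((he b).symm.trans hb)
          exact ⟨N, e.injective (Subtype.ext (by simpa using hN))⟩) rfl
      exact ⟨n + r, by rw [hfree, ← e.toLinearEquiv.finrank_eq, hn, hr, pow_add]⟩
    · -- Frobenius is bijective, so the algebra is reduced
      have htop : B = ⊤ := by
        refine Subalgebra.toSubmodule_injective (Submodule.eq_top_of_finrank_eq ?_)
        exact le_antisymm (Submodule.finrank_le _) hge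
      have hsurj : Function.Surjective (frobenius A p) := fun a => by
        obtain ⟨x, hx⟩ := (hmemB a).1 (htop ▸ Algebra.mem_top)
        exact ⟨x, hx⟩
      haveI : IsArtinianRing A := IsArtinianRing.of_finite k A
      let I : Ideal A := RingHom.ker (Bialgebra.counitAlgHom k A)
      have hle : I ≤ I ^ p := by
        intro x hx
        obtain ⟨y, rfl⟩ := hsurj x
        have hy : y ∈ I := by
          have : (counit (R := k) y) ^ p = 0 := by rw [← Bialgebra.counit_pow]; exact hx
          exact eq_zero_of_pow_eq_zero this
        exact Ideal.pow_mem_pow hy p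
      have hall : ∀ j, I ≤ I ^ (j + 1) := by
        intro j
        induction j with
        | zero => simp
        | succ j ihj =>
          calc I ≤ I ^ p := hle
            _ ≤ I ^ 2 := Ideal.pow_le_pow_right (Fact.out (p := p.Prime)).two_le
            _ = I * I := pow_two I
            _ ≤ I ^ (j + 1) * I := Ideal.mul_mono_left ihj
            _ = I ^ (j + 1 + 1) := (pow_succ _ _).symm
      obtain ⟨N, hN⟩ := IsArtinianRing.isNilpotent_nilradical (R := A)
      have hI0 : I = ⊥ := le_bot_iff.1 ((hall N).trans ((Ideal.pow_le_pow_right (Nat.le_succ N)).trans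
        ((Ideal.pow_right_mono (show I ≤ nilradical A from fun x hx => mem_nilradical.2 (hloc x hx)) N).trans
          hN.le)))
      refine ⟨0, ?_⟩
      have hbij : Function.Bijective (algebraMap k A) := by
        refine ⟨(algebraMap k A).injective, fun a => ⟨counit (R := k) a, ?_⟩⟩
        have : a - algebraMap k A (counit (R := k) a) ∈ I := by simp [I]
        rw [hI0, Submodule.mem_bot, sub_eq_zero] at this
        exact this.symm
      rw [← (LinearEquiv.ofBijective (Algebra.linearMap k A) hbij).finrank_eq, Module.finrank_self, pow_zero]

/-- The rank of a connected finite group scheme is a power of the characteristic exponent. -/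
theorem exists_finrank_eq_pow [PerfectField k] (hloc : ∀ a : A, counit (R := k) a = 0 → IsNilpotent a)
    (q : ℕ) [ExpChar k q] : ∃ n, Module.finrank k A = q ^ n := by
  rcases ‹ExpChar k q› with _ | ⟨hq⟩
  · exact ⟨0, finrank_eq_one_of_charZero hloc⟩
  · haveI := Fact.mk hq
    exact exists_finrank_eq_pow_of_perfect q _ A hloc rfl

end Groth.Agent.FinGrp
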