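import Groth.Agent.Lib.FinGrp20.Local
import Groth.Agent.Lib.OT.BaseChange
import Mathlib.FieldTheory.IsAlgClosed.Basic
import Mathlib.RingTheory.Idempotents

/-!
# A finite group scheme over a field is killed by its order
-/

universe u

open TensorProduct Coalgebra HopfAlgebra WithConv

namespace Groth.Agent.FinGrp

variable {k : Type u} [Field k] {A : Type u} [CommRing A] [HopfAlgebra k A]

/-- Conv powers of `φ` minus the unit push values into powers of an ideal. -/
theorem convPow_prime_mem {R : Type u} [CommRing R] [Algebra k R] (p : ℕ) [Fact p.Prime] [CharP k p]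
    (φ : WithConv (A →ₐ[k] R)) (N : Ideal R) (hφ : ∀ x, counit (R := k) x = 0 → φ.ofConv x ∈ N) :
    ∀ x, counit (R := k) x = 0 → (φ ^ p).ofConv x ∈ N ^ p := by
  classical
  rcases subsingleton_or_nontrivial R with h | h
  · intro x _
    rw [Subsingleton.elim ((φ ^ p).ofConv x) 0]
    exact zero_mem _
  let L : WithConv (A →ₗ[k] R) := toConv φ.ofConv.toLinearMap
  let ψ : WithConv (A →ₗ[k] R) := L - 1
  have h1 : ∀ x, ψ x ∈ N := fun x => by
    have hx : counit (R := k) (x - algebraMap k A (counit (R := k) x)) = 0 := by simp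
    have := hφ _ hx
    rw [map_sub, AlgHom.commutes] at this
    show φ.ofConv x - (1 : WithConv (A →ₗ[k] R)) x ∈ N
    rwa [LinearMap.convOne_apply]
  have hj : ∀ (j : ℕ) x, (ψ ^ j) x ∈ N ^ j := by
    intro j
    induction j with
    | zero => intro x; simp
    | succ j ih =>
      intro x
      rw [pow_succ N, pow_succ ψ, (ℛ k x).convMul_apply]
      exact sum_mem fun i _ => Ideal.mul_mem_mul (ih _) (h1 _)
  haveI : Nontrivial (WithConv (A →ₗ[k] R)) := ⟨⟨1, 0, fun h0 => by
    have := congrArg (fun f : WithConv (A →ₗ[k] R) => f 1) h0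
    simp at this⟩⟩
  haveI : CharP (WithConv (A →ₗ[k] R)) p := by
    have e : ∀ (n : ℕ) (x : A), (n : WithConv (A →ₗ[k] R)) x =
        (n : R) * (1 : WithConv (A →ₗ[k] R)) x := by
      intro n x
      induction n with
      | zero => rw [Nat.cast_zero, Nat.cast_zero, zero_mul]; rfl
      | succ n ih =>
        rw [Nat.cast_succ, Nat.cast_succ, add_mul, one_mul, ← ih]; rfl
    haveI : CharP R p := charP_of_injective_algebraMap (algebraMap k R).injective p
    refine ⟨fun n => ⟨fun h0 => ?_, fun h0 => ofConv_injective (LinearMap.ext fun x => ?_)⟩⟩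
    · rw [← CharP.cast_eq_zero_iff R p]
      have h2 := e n 1
      rw [LinearMap.convOne_apply, Bialgebra.counit_one (R := k) (A := A), (algebraMap k R).map_one,
        mul_one] at h2
      exact h2.symm.trans (by rw [h0]; rfl)
    · show (n : WithConv (A →ₗ[k] R)) x = _
      rw [e, (CharP.cast_eq_zero_iff R p n).2 h0, zero_mul]
      rfl
  intro x hx
  have hpw : ψ ^ p = L ^ p - 1 := by
    rw [sub_pow_char_of_commute p (Commute.one_right L), one_pow]
  have h2 := hj p x
  rw [hpw] at h2
  have h3 : (L ^ p) x = (φ ^ p).ofConv x := by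
    rw [show L ^ p = toConv (φ ^ p).ofConv.toLinearMap from (AlgHom.toLinearMap_convPow φ p).symm]
    rfl
  change (L ^ p) x - (1 : WithConv (A →ₗ[k] R)) x ∈ N ^ p at h2
  rwa [LinearMap.convOne_apply, hx, map_zero, sub_zero, h3] at h2

/-- Iterated `p`-th powers. -/
theorem convPow_prime_pow_mem {R : Type u} [CommRing R] [Algebra k R] (p : ℕ) [Fact p.Prime] [CharP k p]
    (φ : WithConv (A →ₐ[k] R)) (N : Ideal R) (hφ : ∀ x, counit (R := k) x = 0 → φ.ofConv x ∈ N) (t : ℕ) :
    ∀ x, counit (R := k) x = 0 → (φ ^ p ^ t).ofConv x ∈ N ^ p ^ t := by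
  induction t with
  | zero => simpa using hφ
  | succ t ih =>
    intro x hx
    rw [pow_succ, pow_mul, pow_mul]
    exact convPow_prime_mem p _ _ ih x hx

variable [IsAlgClosed k] [Module.Finite k A]

set_option maxHeartbeats 2000000 in
/-- Over an algebraically closed field, a finite group scheme is killed by its order. -/
theorem convPow_finrank_eq_one_of_isAlgClosed :
    (toConv (AlgHom.id k A)) ^ Module.finrank k A = 1 := by
  classical
  haveI : Nontrivial A := Bialgebra.nontrivial k
  haveI : IsArtinianRing A := IsArtinianRing.of_finite k A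
  let G := WithConv (A →ₐ[k] k)
  have hsurj : ∀ g : G, Function.Surjective g.ofConv := fun g c => ⟨algebraMap k A c, g.ofConv.commutes c⟩
  let ker' : G → MaximalSpectrum A := fun g =>
    ⟨RingHom.ker g.ofConv, RingHom.ker_isMaximal_of_surjective _ (hsurj g)⟩
  have hker : Function.Injective ker' := fun g h hgh => ofConv_injective (AlgHom.ext fun x => by
    have h1 : x - algebraMap k A (g.ofConv x) ∈ RingHom.ker g.ofConv := by simp
    rw [show RingHom.ker g.ofConv = RingHom.ker h.ofConv from congrArg MaximalSpectrum.asIdeal hgh,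
      RingHom.mem_ker, map_sub, AlgHom.commutes, sub_eq_zero] at h1
    exact h1.symm)
  haveI : Finite G := Finite.of_injective ker' hker
  letI : Fintype G := Fintype.ofFinite G
  have hpts : ∀ m : Ideal A, m.IsMaximal → ∃ g : G, RingHom.ker g.ofConv = m := by
    intro m hm
    have hb := IsAlgClosed.algebraMap_bijective_of_isIntegral (k := k) (K := A ⧸ m)
    let e := AlgEquiv.ofBijective (Algebra.ofId k (A ⧸ m)) hb
    refine ⟨toConv (e.symm.toAlgHom.comp (Ideal.Quotient.mkₐ k m)), ?_⟩
    ext x
    rw [RingHom.mem_ker, ← Ideal.Quotient.eq_zero_iff_mem]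
    show e.symm (Ideal.Quotient.mk m x) = 0 ↔ _
    exact e.symm.map_eq_zero_iff
  let ev : A →ₐ[k] (G → k) := Pi.algHom k _ fun g => g.ofConv
  have hnil : ∀ x ∈ RingHom.ker ev.toRingHom, IsNilpotent x := fun x hx => by
    rw [nilpotent_iff_mem_prime]
    intro P hP
    obtain ⟨g, hg⟩ := hpts P ((haveI := hP; IsArtinianRing.isMaximal_of_isPrime P))
    rw [← hg]
    exact congrFun (hx : ev x = 0) g
  have hevsurj : Function.Surjective ev := by
    intro c
    have hI : Pairwise (Function.onFun IsCoprime fun g : G => RingHom.ker g.ofConv) := fun g h hgh =>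
      Ideal.isCoprime_iff_sup_eq.2 ((ker' g).isMaximal.coprime_of_ne (ker' h).isMaximal fun he =>
        hgh (hker (MaximalSpectrum.ext he)))
    obtain ⟨r, hr⟩ := Ideal.exists_forall_sub_mem_ideal hI fun g => algebraMap k A (c g)
    exact ⟨r, funext fun g => by simpa [ev, sub_eq_zero] using hr g⟩
  have huniq : ∀ e e' : A, IsIdempotentElem e → IsIdempotentElem e' →
      (∀ g : G, g.ofConv e = g.ofConv e') → e = e' := fun e e' he he' h =>
    eq_of_isNilpotent_sub_of_isIdempotentElem he he' (hnil _ (by
      show ev (e - e') = 0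
      funext g
      simp [ev, h g]))
  have hex : ∀ c : G → k, IsIdempotentElem c → ∃ e, IsIdempotentElem e ∧ ev e = c := fun c hc =>
    exists_isIdempotentElem_eq_of_ker_isNilpotent ev.toRingHom hnil c (hevsurj c) hc
  choose e he hev using fun g : G => hex (Pi.single g 1) (by
    funext h
    rcases eq_or_ne h g with rfl | hne
    · simp
    · simp [hne])
  have hge : ∀ g h : G, h.ofConv (e g) = if h = g then 1 else 0 := fun g h => by
    have := congrFun (hev g) h
    simpa [ev, Pi.single_apply] using this
  have hsum : ∑ g, e g = 1 := by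
    refine huniq _ _ ?_ IsIdempotentElem.one fun h => by
      rw [map_sum, map_one, Finset.sum_eq_single h (fun g _ hne => by rw [hge, if_neg hne.symm])
        (by simp), hge, if_pos rfl]
    refine (OrthogonalIdempotents.isIdempotentElem_sum ⟨he, fun g g' hgg' => ?_⟩)
    refine huniq _ _ ((he g).mul (he g')) IsIdempotentElem.zero fun h => ?_
    rw [map_mul, hge, hge, map_zero]
    split_ifs with h1 h2
    · exact absurd (h1.symm.trans h2) hgg'
    all_goals simp
  -- translations
  let iA : k →ₐ[k] A := Algebra.ofId k A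
  let τ : G → A →ₐ[k] A := fun g => (toConv (iA.comp g.ofConv) * toConv (AlgHom.id k A)).ofConv
  have hτh : ∀ g h : G, h.ofConv.comp (τ g) = (g * h).ofConv := fun g h => by
    rw [AlgHom.comp_convMul_distrib]
    congr 2
    · refine congrArg toConv (AlgHom.ext fun x => ?_)
      simp [iA]
  have hτinv : ∀ g : G, (τ g).comp (τ g⁻¹) = AlgHom.id k A := fun g => by
    rw [AlgHom.comp_convMul_distrib]
    have h1 : toConv ((τ g).comp (toConv (iA.comp g⁻¹.ofConv)).ofConv) = toConv (iA.comp g⁻¹.ofConv) :=
      congrArg toConv (AlgHom.ext fun x => by simp [iA])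
    rw [h1, ofConv_toConv, AlgHom.comp_id]
    show (toConv (iA.comp g⁻¹.ofConv) * (toConv (iA.comp g.ofConv) * toConv (AlgHom.id k A))).ofConv = _
    rw [← mul_assoc]
    have h2 : toConv (iA.comp g⁻¹.ofConv) * toConv (iA.comp g.ofConv) = 1 := by
      apply ofConv_injective
      rw [← AlgHom.comp_convMul_distrib, inv_mul_cancel]
      refine AlgHom.ext fun x => ?_
      simp [iA]
    rw [h2, one_mul]
  -- ranks
  let W : G → Submodule k A := fun g => LinearMap.range (LinearMap.mulLeft k (e g))
  have hW : ∀ g x, x ∈ W g ↔ e g * x = x := fun g x =>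
    ⟨fun ⟨y, hy⟩ => by rw [← hy, LinearMap.mulLeft_apply, ← mul_assoc, (he g).eq], fun h => ⟨x, h⟩⟩
  have hτe : ∀ g g' : G, τ g (e g') = e (g⁻¹ * g') := fun g g' =>
    huniq _ _ ((he g').map (τ g)) (he _) fun h => by
      show (h.ofConv.comp (τ g)) (e g') = _
      rw [hτh, hge, hge]
      simp only [eq_inv_mul_iff_mul_eq]
  have hdim : ∀ g, Module.finrank k (W g) = Module.finrank k (W 1) := by
    have hinj : ∀ g, Function.Injective (τ g) := fun g =>
      Function.LeftInverse.injective (g := τ g⁻¹) fun x => by
        have := AlgHom.congr_fun (hτinv g⁻¹) x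
        rwa [inv_inv] at this
    have hle : ∀ g g', Module.finrank k (W g') ≤ Module.finrank k (W (g⁻¹ * g')) := fun g g' => by
      refine LinearMap.finrank_le_finrank_of_injective
        (f := (τ g).toLinearMap.restrict (q := W (g⁻¹ * g')) fun x hx => ?_) fun a b hab => ?_
      · rw [hW] at hx ⊢
        show e (g⁻¹ * g') * τ g x = τ g x
        rw [← hτe, ← map_mul, hx]
      · exact Subtype.ext (hinj g (congrArg Subtype.val hab))
    intro g
    refine le_antisymm ?_ ?_
    · have := hle g g; rwa [inv_mul_cancel] at this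
    · have := hle g⁻¹ 1; rwa [inv_inv, mul_one] at this
  have htotal : Module.finrank k A = Fintype.card G * Module.finrank k (W 1) := by
    let Ψ : A →ₗ[k] (∀ g, W g) := LinearMap.pi fun g => (LinearMap.mulLeft k (e g)).rangeRestrict
    have hortho : ∀ g g', g ≠ g' → e g * e g' = 0 := fun g g' hgg' =>
      huniq _ _ ((he g).mul (he g')) IsIdempotentElem.zero fun h => by
        rw [map_mul, hge, hge, map_zero]
        split_ifs with h1 h2
        · exact absurd (h1.symm.trans h2) hgg'
        all_goals simp
    have hbij : Function.Bijective Ψ := by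
      refine ⟨fun a b hab => ?_, fun c => ⟨∑ g, (c g : A), funext fun g => Subtype.ext ?_⟩⟩
      · rw [← one_mul a, ← one_mul b, ← hsum, Finset.sum_mul, Finset.sum_mul]
        exact Finset.sum_congr rfl fun g _ => congrArg Subtype.val (congrFun hab g)
      · show e g * ∑ g', (c g' : A) = c g
        rw [Finset.mul_sum, Finset.sum_eq_single g (fun g' _ hne => by
          rw [← (hW g' _).1 (c g').2, ← mul_assoc, hortho g g' hne.symm, zero_mul]) (by simp)]
        exact (hW g _).1 (c g).2
    rw [(LinearEquiv.ofBijective Ψ hbij).finrank_eq, Module.finrank_pi_fintype]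
    simp [hdim]
  -- the neutral component
  let e₀ := e 1
  let J : Ideal A := Ideal.span {1 - e₀}
  have hε : ∀ x, (1 : G).ofConv x = counit (R := k) x := fun x => by simp
  have hεe : counit (R := k) e₀ = 1 := by rw [← hε, hge, if_pos rfl]
  let q := Ideal.Quotient.mkₐ k J
  have hq : ∀ x, q x = 0 ↔ e₀ * x = 0 := fun x => by
    show Ideal.Quotient.mk J x = 0 ↔ _
    rw [Ideal.Quotient.eq_zero_iff_mem, Ideal.mem_span_singleton']
    refine ⟨fun ⟨y, hy⟩ => ?_, fun h => ⟨x, by rw [mul_sub, mul_one, mul_comm, h, sub_zero]⟩⟩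
    rw [← hy, mul_left_comm, mul_sub, mul_one, (he 1).eq, sub_self, mul_zero]
  have hq1 : ∀ x, counit (R := k) x = 0 → IsNilpotent (q x) := fun x hx => by
    have hn : IsNilpotent (e₀ * x) := hnil _ (by
      show ev (e₀ * x) = 0
      funext h
      show h.ofConv (e₀ * x) = 0
      rw [map_mul, hge]
      split_ifs with h1
      · rw [h1, hε, hx, mul_zero]
      · rw [zero_mul])
    have : q (e₀ * x) = q x := by
      rw [← sub_eq_zero, ← map_sub, hq, mul_sub, ← mul_assoc, (he 1).eq, sub_self]
    exact this ▸ hn.map q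
  haveI : J.IsHopfIdeal k := by
    refine isHopfIdeal_of_algHom J (fun x hx => ?_) (fun x hx => ?_) fun x hx => ?_
    all_goals obtain ⟨y, rfl⟩ := Ideal.mem_span_singleton'.1 hx
    · rw [Bialgebra.counit_mul, map_sub, hεe, Bialgebra.counit_one, sub_self, mul_zero]
    · suffices H : Algebra.TensorProduct.map q q (Bialgebra.comulAlgHom k A e₀) = 1 by
        rw [map_mul, map_mul, map_sub, map_sub, map_one, map_one, H, sub_self, mul_zero]
      have hid := ((he 1).map (Bialgebra.comulAlgHom k A)).map (Algebra.TensorProduct.map q q)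
      refine eq_of_isNilpotent_sub_of_isIdempotentElem hid IsIdempotentElem.one ?_
      have key : ∀ z : A ⊗[k] A, IsNilpotent (Algebra.TensorProduct.map q q z -
          algebraMap k _ (LinearMap.mul' k k (TensorProduct.map counit counit z))) := by
        intro z
        induction z using TensorProduct.induction_on with
        | zero => simp
        | add a b ha hb =>
          simp only [map_add, add_sub_add_comm]
          exact Commute.isNilpotent_add (Commute.all _ _) ha hb
        | tmul a b =>
          simp only [Algebra.TensorProduct.map_tmul, TensorProduct.map_tmul, LinearMap.mul'_apply, map_mul]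
          have ha := hq1 (a - algebraMap k A (counit (R := k) a)) (by simp)
          have hb := hq1 (b - algebraMap k A (counit (R := k) b)) (by simp)
          rw [map_sub, q.commutes] at ha hb
          have h1 : q a ⊗ₜ[k] q b - algebraMap k _ (counit (R := k) a) * algebraMap k _ (counit (R := k) b) =
              (q a - algebraMap k _ (counit (R := k) a)) ⊗ₜ[k] q b +
                algebraMap k ((A ⧸ J) ⊗[k] (A ⧸ J)) (counit (R := k) a) *
                  ((1 : A ⧸ J) ⊗ₜ[k] (q b - algebraMap k _ (counit (R := k) b))) := by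
            rw [TensorProduct.sub_tmul, TensorProduct.tmul_sub, mul_sub,
              show algebraMap k ((A ⧸ J) ⊗[k] (A ⧸ J)) (counit (R := k) a) =
                algebraMap k (A ⧸ J) (counit (R := k) a) ⊗ₜ[k] 1 from Algebra.TensorProduct.algebraMap_apply _,
              show algebraMap k ((A ⧸ J) ⊗[k] (A ⧸ J)) (counit (R := k) b) =
                (1 : A ⧸ J) ⊗ₜ[k] algebraMap k (A ⧸ J) (counit (R := k) b) from
                ((Algebra.TensorProduct.includeRight : A ⧸ J →ₐ[k] (A ⧸ J) ⊗[k] (A ⧸ J)).commutes _).symm,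
              Algebra.TensorProduct.tmul_mul_tmul, Algebra.TensorProduct.tmul_mul_tmul]
            simp only [one_mul, mul_one]
            abel
          rw [h1]
          refine Commute.isNilpotent_add (Commute.all _ _) ?_
            (Commute.isNilpotent_mul_left (Commute.all _ _)
              (hb.map (Algebra.TensorProduct.includeRight : A ⧸ J →ₐ[k] (A ⧸ J) ⊗[k] (A ⧸ J))))
          rw [← mul_one (q a - _), ← one_mul (q b), ← Algebra.TensorProduct.tmul_mul_tmul]
          exact Commute.isNilpotent_mul_right (Commute.all _ _)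
            (ha.map (Algebra.TensorProduct.includeLeft : A ⧸ J →ₐ[k] (A ⧸ J) ⊗[k] (A ⧸ J)))
      have h2 := key (comul (R := k) e₀)
      have h3 : LinearMap.mul' k k (TensorProduct.map counit counit (comul (R := k) e₀)) = 1 := by
        have : ∀ z : A ⊗[k] A, LinearMap.mul' k k (TensorProduct.map (counit (R := k)) (counit (R := k)) z) =
            counit (R := k) (TensorProduct.lid k A ((counit (R := k)).rTensor A z)) := by
          intro z
          induction z using TensorProduct.induction_on with
          | zero => simp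
          | add a b ha hb => simp only [map_add, ha, hb]
          | tmul a b => simp
        rw [this, rTensor_counit_comul]
        simp [hεe]
      rwa [h3, map_one] at h2
    · have hSe : antipodeAlgHom k A e₀ = e₀ := huniq _ _ ((he 1).map _) (he 1) fun h => by
        have h1 : h.ofConv.comp (antipodeAlgHom k A) = h⁻¹.ofConv := rfl
        show (h.ofConv.comp (antipodeAlgHom k A)) e₀ = _
        rw [h1, hge, hge]
        simp only [inv_eq_one]
      show antipodeAlgHom k A (y * (1 - e₀)) ∈ J
      rw [map_mul, map_sub, map_one, hSe]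
      exact J.mul_mem_left _ (Ideal.mem_span_singleton_self _)
  have hdimJ : Module.finrank k (A ⧸ J) = Module.finrank k (W 1) := by
    have hkerq : LinearMap.ker q.toLinearMap = LinearMap.ker (LinearMap.mulLeft k e₀) := by
      ext x
      exact hq x
    exact ((LinearMap.quotKerEquivOfSurjective q.toLinearMap Ideal.Quotient.mk_surjective).symm.trans
      ((Submodule.quotEquivOfEq _ _ hkerq).trans (LinearMap.quotKerEquivRange _))).finrank_eq
  have hloc₀ : ∀ a : A ⧸ J, counit (R := k) a = 0 → IsNilpotent a := fun a ha => by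
    obtain ⟨x, rfl⟩ := Ideal.Quotient.mk_surjective a
    exact hq1 x ha
  obtain ⟨p, hexp⟩ := ExpChar.exists k
  obtain ⟨t, ht⟩ := exists_finrank_eq_pow (k := k) (A := A ⧸ J) hloc₀ p
  -- the power map
  let φ : WithConv (A →ₐ[k] A) := toConv (AlgHom.id k A) ^ Fintype.card G
  have hφh : ∀ (n : ℕ) (h : G), h.ofConv.comp (toConv (AlgHom.id k A) ^ n).ofConv = (h ^ n).ofConv := by
    intro n h
    induction n with
    | zero => exact AlgHom.ext fun x => by simp
    | succ n ih => rw [pow_succ, pow_succ, AlgHom.comp_convMul_distrib, ih]; rfl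
  have hφe : φ.ofConv e₀ = 1 := huniq _ _ ((he 1).map _) IsIdempotentElem.one fun h => by
    show (h.ofConv.comp φ.ofConv) e₀ = _
    rw [hφh, pow_card_eq_one, hge, if_pos rfl, map_one]
  let I₀ : Ideal (A ⧸ J) := RingHom.ker (Bialgebra.counitAlgHom k (A ⧸ J))
  have hI₀ : I₀ ^ (p ^ t) = ⊥ := by
    rw [← ht]
    haveI : IsArtinianRing (A ⧸ J) := IsArtinianRing.of_finite k (A ⧸ J)
    refine pow_finrank_eq_bot ?_
    obtain ⟨N, hN⟩ := IsArtinianRing.isNilpotent_nilradical (R := A ⧸ J)
    exact ⟨N, le_bot_iff.1 ((Ideal.pow_right_mono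
      (show I₀ ≤ nilradical (A ⧸ J) from fun x hx => mem_nilradical.2 (hloc₀ x hx)) N).trans hN.le)⟩
  let Φ : A ⧸ J →ₐ[k] A := Ideal.Quotient.liftₐ J φ.ofConv fun x hx => by
    obtain ⟨y, rfl⟩ := Ideal.mem_span_singleton'.1 hx
    rw [map_mul, map_sub, map_one, hφe, sub_self, mul_zero]
  let N : Ideal A := I₀.map Φ
  have hN : N ^ (p ^ t) = ⊥ := by rw [← Ideal.map_pow, hI₀, Ideal.map_bot]
  have hφN : ∀ x, counit (R := k) x = 0 → φ.ofConv x ∈ N := fun x hx =>
    Ideal.mem_map_of_mem Φ (show q x ∈ I₀ from hx)
  have hkill : φ ^ (p ^ t) = 1 := by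
    refine ofConv_injective (AlgHom.ext fun x => ?_)
    have hx : counit (R := k) (x - algebraMap k A (counit (R := k) x)) = 0 := by simp
    have h1 : (φ ^ p ^ t).ofConv (x - algebraMap k A (counit (R := k) x)) ∈ N ^ p ^ t := by
      rcases hexp with _ | ⟨hp⟩
      · simpa using hφN _ hx
      · haveI := Fact.mk hp
        exact convPow_prime_pow_mem p φ N hφN t _ hx
    rw [hN, Ideal.mem_bot, map_sub, AlgHom.commutes, sub_eq_zero] at h1
    rw [h1]
    simp
  rw [htotal, ← hdimJ, ht, pow_mul]
  exact hkill

end Groth.Agent.FinGrp
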